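import Cfsg.Agent.TypeM.FactsMcL
import Mathlib.GroupTheory.Perm.Centralizer

/-!
# McL: the centralizers of elements with even order (S4819, S4820, [3MCL-A])

`C(t) = 2.A_8`; for `y ∈ C(t)` of odd order `|C(t y)| = 2 |C_{A_8}(π y)|`.
-/

set_option autoImplicit false

universe u

namespace Cfsg.Agent.H699.TI

open Subgroup Cfsg Equiv
open Cfsg.Agent.TypeM.Two Cfsg.Agent.SporRec.TwoAn

theorem card_cent_alt {σ : Perm (Fin 8)} (hσ : σ.cycleType.sum ≤ 6) :
    2 * Nat.card ↥(centralizer ({σ} : Set (Perm (Fin 8))) ⊓ alternatingGroup (Fin 8)) =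
      Nat.card (centralizer ({σ} : Set (Perm (Fin 8)))) := by
  obtain ⟨a, b, hab, ha, hb⟩ : ∃ a b : Fin 8, a ≠ b ∧ σ a = a ∧ σ b = b := by
    have h1 : 1 < (σ.supportᶜ).card := by
      rw [Finset.card_compl, Fintype.card_fin, ← σ.sum_cycleType]; omega
    obtain ⟨a, ha, b, hb, hab⟩ := Finset.one_lt_card.1 h1
    exact ⟨a, b, hab, by simpa using ha, by simpa using hb⟩
  have hcomm : swap a b * σ = σ * swap a b := by
    have : (swap a b).Disjoint σ := by
      intro x
      by_cases hx : x = a ∨ x = b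
      · right; rcases hx with rfl | rfl; exacts [ha, hb]
      · left; push Not at hx; exact swap_apply_of_ne_of_ne hx.1 hx.2
    exact this.commute.eq
  set C := centralizer ({σ} : Set (Perm (Fin 8))) with hC
  let f : C →* ℤˣ := Perm.sign.comp C.subtype
  have hf : Function.Surjective f := by
    intro u
    rcases Int.units_eq_one_or u with rfl | rfl
    · exact ⟨1, map_one f⟩
    · exact ⟨⟨swap a b, mem_centralizer_singleton_iff.2 hcomm⟩, Perm.sign_swap hab⟩
  have h2 : Nat.card f.ker * 2 = Nat.card C := by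
    rw [← f.ker.card_mul_index, Subgroup.index_ker, MonoidHom.range_eq_top.2 hf, Subgroup.card_top,
      Nat.card_eq_fintype_card (α := ℤˣ)]
    rfl
  have h3 : f.ker.map C.subtype = C ⊓ alternatingGroup (Fin 8) := by
    ext g
    constructor
    · rintro ⟨x, hx, rfl⟩
      exact ⟨x.2, hx⟩
    · rintro ⟨h4, h5⟩
      exact ⟨⟨g, h4⟩, h5, rfl⟩
  rw [← h3, ← h2, mul_comm, Nat.card_congr (f.ker.equivMapOfInjective _ (subtype_injective _)).toEquiv.symm]

/-- `|C_{2.A_8}(y)| = 2 |C_{A_8}(π y)|` for `y` of odd order -/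
theorem card_cent_cover {C : Type*} [Group C] (K : Cover (Fin 8) C) {y : C} {n : ℕ} (hn : Odd n) (hy : y ^ n = 1) :
    Nat.card (centralizer ({y} : Set C)) =
      2 * Nat.card ↥(centralizer ({K.π y} : Set (Perm (Fin 8))) ⊓ alternatingGroup (Fin 8)) := by
  let f : centralizer ({y} : Set C) →* Perm (Fin 8) := K.π.comp (centralizer ({y} : Set C)).subtype
  have hker : Nat.card f.ker = 2 := by
    have h1 : f.ker.map (centralizer ({y} : Set C)).subtype = K.π.ker := by
      ext g
      constructor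
      · rintro ⟨x, hx, rfl⟩
        exact hx
      · intro hg
        refine ⟨⟨g, ?_⟩, hg, rfl⟩
        rw [mem_centralizer_singleton_iff]
        rcases (K.ker g).1 hg with rfl | rfl
        · rw [one_mul, mul_one]
        · exact (K.z_comm y).symm
    rw [Nat.card_congr (f.ker.equivMapOfInjective _ (subtype_injective _)).toEquiv, h1,
      Nat.card_eq_two_iff' (1 : K.π.ker)]
    refine ⟨⟨K.z, K.π_z⟩, fun e => K.z_ne (congrArg Subtype.val e), ?_⟩
    rintro ⟨x, hx⟩ hx1
    rcases (K.ker x).1 hx with h1 | h1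
    · exact absurd (Subtype.ext h1) hx1
    · exact Subtype.ext h1
  have hrange : f.range = centralizer ({K.π y} : Set (Perm (Fin 8))) ⊓ alternatingGroup (Fin 8) := by
    ext σ
    constructor
    · rintro ⟨g, rfl⟩
      have hg := mem_centralizer_singleton_iff.1 g.2
      refine ⟨?_, K.mem_alternating _⟩
      refine mem_centralizer_singleton_iff.2 ?_
      show K.π g * K.π y = K.π y * K.π g
      rw [← map_mul, hg, map_mul]
    · rintro ⟨h1, h2⟩
      obtain ⟨g, rfl⟩ := K.exists_lift h2
      have h3 := K.commute_of_odd hn hy (mem_centralizer_singleton_iff.1 h1).symm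
      exact ⟨⟨g, mem_centralizer_singleton_iff.2 h3.symm⟩, rfl⟩
  rw [← hrange, ← f.ker.card_mul_index, Subgroup.index_ker, hker]

theorem card_cent_mul {G : Type*} [Group G] {t y : G} (ht : t * t = 1) (hty : t * y = y * t) {n : ℕ} (hn : Odd n)
    (hy : y ^ n = 1) : Nat.card (centralizer ({t * y} : Set G)) =
      Nat.card (centralizer ({⟨y, mem_centralizer_singleton_iff.2 hty.symm⟩} : Set (centralizer ({t} : Set G)))) := by
  have h1 : (centralizer ({⟨y, mem_centralizer_singleton_iff.2 hty.symm⟩} : Set (centralizer ({t} : Set G)))).map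
      (centralizer ({t} : Set G)).subtype = centralizer ({t * y} : Set G) := by
    ext g
    constructor
    · rintro ⟨x, hx, rfl⟩
      have hx1 := mem_centralizer_singleton_iff.1 x.2
      have hx2 := congrArg Subtype.val (mem_centralizer_singleton_iff.1 hx)
      have hx3 : (x : G) * y = y * x := hx2
      rw [mem_centralizer_singleton_iff]
      show (x : G) * (t * y) = t * y * x
      rw [← mul_assoc, hx1, mul_assoc, hx3, mul_assoc]
    · intro hg
      have hg1 : Commute g (t * y) := mem_centralizer_singleton_iff.1 hg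
      have hg2 : Commute g t := by
        have h2 : (t * y) ^ n = t := by
          have hc : Commute t y := hty
          rw [hc.mul_pow, hy, mul_one]
          obtain ⟨k, rfl⟩ := hn
          rw [pow_succ, pow_mul, pow_two, ht, one_pow, one_mul]
        rw [← h2]
        exact hg1.pow_right n
      have hg3 : Commute g y := by
        have h2 : t * (t * y) = y := by rw [← mul_assoc, ht, one_mul]
        rw [← h2]
        exact hg2.mul_right hg1
      refine ⟨⟨g, mem_centralizer_singleton_iff.2 hg2.eq⟩, ?_, rfl⟩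
      exact mem_centralizer_singleton_iff.2 (Subtype.ext hg3.eq)
  rw [← h1]
  exact (Nat.card_congr (Subgroup.equivMapOfInjective _ _ (subtype_injective _)).toEquiv).symm

variable {M : Type u} [Group M]

/-- the main reduction -/
theorem exists_cover (h : Spor.IsoMcL M) {t : M} (ht : orderOf t = 2) :
    ∃ K : Cover (Fin 8) (centralizer ({t} : Set M)), (K.z : M) = t := by
  obtain ⟨-, -, -, ⟨L⟩⟩ := Cfsg.Agent.TypeM.FactsMcL.facts h
  obtain ⟨h1, h2⟩ := MT.sq_of_orderOf ht
  obtain ⟨L', rfl⟩ := L.exists_rebase h1 h2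
  exact ⟨L'.K, L'.hz⟩

theorem card_cent_two (h : Spor.IsoMcL M) {t : M} (ht : orderOf t = 2) :
    Nat.card (centralizer ({t} : Set M)) = 40320 := by
  obtain ⟨K, hK⟩ := exists_cover h ht
  have hker : Nat.card K.π.ker = 2 := by
    rw [Nat.card_eq_two_iff' (1 : K.π.ker)]
    refine ⟨⟨K.z, K.π_z⟩, fun e => K.z_ne (congrArg Subtype.val e), ?_⟩
    rintro ⟨x, hx⟩ hx1
    rcases (K.ker x).1 hx with h1 | h1
    · exact absurd (Subtype.ext h1) hx1
    · exact Subtype.ext h1
  rw [← K.π.ker.card_mul_index, Subgroup.index_ker, K.range_eq, hker, nat_card_alternatingGroup, Nat.card_eq_fintype_card,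
    Fintype.card_fin]
  rfl

theorem orderOf_pi {C : Type*} [Group C] (K : Cover (Fin 8) C) {y : C} {p : ℕ} (hp : p.Prime) (hp2 : p ≠ 2)
    (hy : orderOf y = p) : orderOf (K.π y) = p := by
  have : Fact p.Prime := ⟨hp⟩
  have h1 : y ^ p = 1 := by rw [← hy, pow_orderOf_eq_one]
  refine orderOf_eq_prime (by rw [← map_pow, h1, map_one]) ?_
  intro h2
  rcases (K.ker y).1 h2 with rfl | rfl
  · rw [orderOf_one] at hy
    exact hp.one_lt.ne hy
  · rw [K.orderOf_z] at hy
    exact hp2 hy.symm

theorem cycleType_of_prime {σ : Perm (Fin 8)} {p : ℕ} (hp : p.Prime) (hσ : orderOf σ = p) :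
    ∃ k : ℕ, 1 ≤ k ∧ k * p ≤ 8 ∧ σ.cycleType = Multiset.replicate k p := by
  have : Fact p.Prime := ⟨hp⟩
  have h1 : σ ^ p = 1 := by rw [← hσ, pow_orderOf_eq_one]
  have hct := Perm.cycleType_of_pow_prime_eq_one h1
  refine ⟨σ.cycleType.card, ?_, ?_, hct⟩
  · by_contra hcon
    have h2 : σ.cycleType.card = 0 := by omega
    rw [Perm.card_cycleType_eq_zero.1 h2, orderOf_one] at hσ
    exact hp.one_lt.ne hσ
  · have h3 : σ.cycleType.sum ≤ 8 := by
      rw [σ.sum_cycleType]
      exact (Finset.card_le_univ _).trans (by simp)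
    rw [hct, Multiset.sum_replicate, smul_eq_mul] at h3
    exact h3

theorem card_rep {σ : Perm (Fin 8)} {k p : ℕ} (hk : σ.cycleType = Multiset.replicate k p) (h6 : k * p ≤ 6) (N : ℕ)
    (h : (Fintype.card (Fin 8) - (Multiset.replicate k p).sum).factorial * (Multiset.replicate k p).prod *
        (∏ n ∈ (Multiset.replicate k p).toFinset, ((Multiset.replicate k p).count n).factorial) = 2 * N) :
    Nat.card ↥(centralizer ({σ} : Set (Perm (Fin 8))) ⊓ alternatingGroup (Fin 8)) = N := by
  have h1 := card_cent_alt (σ := σ) (by rw [hk]; simpa using h6)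
  rw [Equiv.Perm.nat_card_centralizer, hk, h] at h1
  omega

theorem card_five {σ : Perm (Fin 8)} (hσ : orderOf σ = 5) :
    Nat.card ↥(centralizer ({σ} : Set (Perm (Fin 8))) ⊓ alternatingGroup (Fin 8)) = 15 := by
  obtain ⟨k, hk1, hk2, hk⟩ := cycleType_of_prime (by norm_num) hσ
  obtain rfl : k = 1 := by omega
  exact card_rep hk (by norm_num) 15 (by decide)

theorem card_three {σ : Perm (Fin 8)} (hσ : orderOf σ = 3) :
    (σ.support.card = 3 ∧ Nat.card ↥(centralizer ({σ} : Set (Perm (Fin 8))) ⊓ alternatingGroup (Fin 8)) = 180) ∨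
    (σ.support.card = 6 ∧ Nat.card ↥(centralizer ({σ} : Set (Perm (Fin 8))) ⊓ alternatingGroup (Fin 8)) = 18) := by
  obtain ⟨k, hk1, hk2, hk⟩ := cycleType_of_prime (by norm_num) hσ
  have hk3 : k = 1 ∨ k = 2 := by omega
  rcases hk3 with rfl | rfl
  · left
    exact ⟨by rw [← σ.sum_cycleType, hk]; rfl, card_rep hk (by norm_num) 180 (by decide)⟩
  · right
    exact ⟨by rw [← σ.sum_cycleType, hk]; rfl, card_rep hk (by norm_num) 18 (by decide)⟩

theorem odd_of_prime {p : ℕ} (hp : p.Prime) (hp2 : p ≠ 2) : Odd p := hp.odd_of_ne_two hp2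

theorem card_cent_ten (h : Spor.IsoMcL M) {t z : M} (ht : orderOf t = 2) (hz : orderOf z = 5) (hc : t * z = z * t) :
    Nat.card (centralizer ({t * z} : Set M)) = 30 := by
  obtain ⟨K, hK⟩ := exists_cover h ht
  obtain ⟨h1, h2⟩ := MT.sq_of_orderOf ht
  have hz5 : z ^ 5 = 1 := by rw [← hz, pow_orderOf_eq_one]
  rw [card_cent_mul h1 hc (by decide : Odd 5) hz5, card_cent_cover K (by decide : Odd 5) (Subtype.ext hz5),
    card_five (orderOf_pi K (by norm_num) (by norm_num) (by rw [Subgroup.orderOf_mk]; exact hz))]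

theorem cent_three (h : Spor.IsoMcL M) {t x : M} (ht : orderOf t = 2) (hx : orderOf x = 3) (htx : t * x = x * t) :
    Nat.card (centralizer ({t * x} : Set M)) = 360 ∨ (Nat.card (centralizer ({t * x} : Set M)) = 36 ∧
      ∀ z : M, orderOf z = 5 → t * z = z * t → x * z ≠ z * x) := by
  obtain ⟨K, hK⟩ := exists_cover h ht
  obtain ⟨h1, h2⟩ := MT.sq_of_orderOf ht
  have hx3 : x ^ 3 = 1 := by rw [← hx, pow_orderOf_eq_one]
  have hpi := orderOf_pi K (y := ⟨x, mem_centralizer_singleton_iff.2 htx.symm⟩) (p := 3) (by norm_num) (by norm_num)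
    (by rw [Subgroup.orderOf_mk]; exact hx)
  rw [card_cent_mul h1 htx (by decide : Odd 3) hx3, card_cent_cover K (by decide : Odd 3) (Subtype.ext hx3)]
  rcases card_three hpi with ⟨h3, h4⟩ | ⟨h3, h4⟩
  · left
    rw [h4]
  · right
    refine ⟨by rw [h4], ?_⟩
    intro z hz htz hxz
    have hz5 := orderOf_pi K (y := ⟨z, mem_centralizer_singleton_iff.2 htz.symm⟩) (p := 5) (by norm_num) (by norm_num)
      (by rw [Subgroup.orderOf_mk]; exact hz)
    set ζ := K.π ⟨z, mem_centralizer_singleton_iff.2 htz.symm⟩ with hζ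
    have hmem : ζ ∈ centralizer ({K.π ⟨x, mem_centralizer_singleton_iff.2 htx.symm⟩} : Set (Perm (Fin 8))) ⊓
        alternatingGroup (Fin 8) := by
      refine ⟨mem_centralizer_singleton_iff.2 ?_, K.mem_alternating _⟩
      rw [hζ, ← map_mul, ← map_mul]
      exact congrArg K.π (Subtype.ext hxz.symm)
    have h5 := orderOf_dvd_natCard (⟨ζ, hmem⟩ :
      ↥(centralizer ({K.π ⟨x, mem_centralizer_singleton_iff.2 htx.symm⟩} : Set (Perm (Fin 8))) ⊓
        alternatingGroup (Fin 8)))
    rw [h4, Subgroup.orderOf_mk, hz5] at h5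
    exact absurd h5 (by norm_num)

theorem card_cent_six (h : Spor.IsoMcL M) {t x z : M} (ht : orderOf t = 2) (hx : orderOf x = 3) (hz : orderOf z = 5)
    (htx : t * x = x * t) (htz : t * z = z * t) (hxz : x * z = z * x) :
    Nat.card (centralizer ({t * x} : Set M)) = 360 := by
  rcases cent_three h ht hx htx with h1 | ⟨-, h1⟩
  · exact h1
  · exact absurd hxz (h1 z hz htz)

theorem not_sixteen (h : Spor.IsoMcL M) {t x : M} (ht : orderOf t = 2) (hx : orderOf x = 3) (htx : t * x = x * t) :
    ¬ 16 ∣ Nat.card (centralizer ({t * x} : Set M)) := by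
  rcases cent_three h ht hx htx with h1 | ⟨h1, -⟩ <;> · rw [h1]; norm_num

end Cfsg.Agent.H699.TI
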